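import Cfsg.Agent.DL.Tw.Emb
import Cfsg.Agent.H72.G2G.Fix2

/-!
# The datum of `²G₂(q)` (helper6)

`reeA k m`, `spcD_G2`, `spc_G2`, `datG2`, `qs_G2`, `ex_G2`, `embG2`, `emb_G2` (`d = 1`, all `m`).
-/

set_option autoImplicit false
set_option linter.unusedSectionVars false

namespace Cfsg.Agent.DL.Tw

open CoxeterSystem Cfsg Cfsg.Lie Cfsg.Lie.ChevalleyDatum
open Cfsg.Agent.ChevalleyStructure Cfsg.Agent.ChevalleyStructure.Elts Cfsg.Agent.ChevalleyStructure.CoxeterGeom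
  Cfsg.Agent.ChevalleyStructure.CoxeterGeomTypes Cfsg.Agent.ChevalleyStructure.NPerm
open Cfsg.Agent.Tits.Roots Cfsg.Agent.Tits.Core Cfsg.Agent.Nodes Cfsg.Agent.Nodes.Reps Cfsg.Agent.Nodes.BNOf
  Cfsg.Agent.Nodes.RGDChev Cfsg.Agent.Nodes.Bruhat
open Cfsg.Agent.KFacts.RgdField Cfsg.Agent.KFacts.RgdChevCoord Cfsg.Agent.BpExc.TorChev
open Cfsg.Agent.GpExc.Field Cfsg.Agent.BpExc.Tow Cfsg.Agent.BpExc.TowChev Cfsg.Agent.BpExc.Fr
  Cfsg.Agent.BpExc.LangFr Cfsg.Agent.LangThm Cfsg.Agent.BpExc Cfsg.Agent.H129.TorusChar Cfsg.Agent.DL.Ex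
open Cfsg.Agent.H689.Ccp (fl la fl_tab)
open Cfsg.Agent.H70.ChevFix (xe)

theorem tyG2 : IsType chevG2 2 CoxeterMatrix.G₂ := by simp [IsType, typeList]

/-- the exponents -/
def exG2 (m r : ℕ) : ℕ := m + if la r = 1 then 0 else 1

/-- the swap -/
def sw2 : Fin 2 → Fin 2 := ![1, 0]

theorem tabG2 : ∀ r < 12, fl (chevG2.neg r) = chevG2.neg (fl r) ∧ la (chevG2.neg r) = la r ∧
    ((if la r = 1 then 0 else 1) + if la (fl r) = 1 then 0 else 1) = 1 ∧ la r = 3 ^ (if la r = 1 then 0 else 1) := by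
  decide +kernel

theorem spcD_G2 (m : ℕ) : SpcD chevG2 2 fl (exG2 m) sw2 (2 * m + 1) where
  lt r hr := (fl_tab r hr).1
  inv r hr := (fl_tab r hr).2.1
  neg r hr := (tabG2 r hr).1
  exneg r hr := by rw [exG2, exG2, (tabG2 r hr).2.1]
  sum r hr := by
    have := (tabG2 r hr).2.2.1
    rw [exG2, exG2]
    omega
  simple := by decide +kernel

theorem xc_G2 {K : Type} [Field K] {r : ℕ} (hr : r < 12) (t : K) :
    xc tyG2 (vec chevG2 2 r) t = xe H689.Ccp.hD r t :=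
  Subtype.ext (coe_xc tyG2 hr t)

theorem spc_of_spec {K : Type} [Field K] [CharP K 3] [PerfectRing K 3] {Γ : MulAut ↥(chevG2.group K)}
    (h : H72.G2G.Spec Γ) (m : ℕ) : Spc tyG2 3 (Γ ^ (2 * m + 1) : MulAut ↥(chevG2.group K)) fl (exG2 m) := by
  refine ⟨fun r hr t => ?_⟩
  rw [xc_G2 hr, xc_G2 (fl_tab r hr).1, h.pow_odd m hr, exG2, pow_add, ← (tabG2 r hr).2.2.2, mul_comm]

/-- the Steinberg automorphism of `G₂(k)` -/
noncomputable def reeA (k : Type) [Field k] [CharP k 3] [PerfectRing k 3] (m : ℕ) : MulAut ↥(chevG2.group k) :=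
  (H72.G2G.exists_spec k).choose ^ (2 * m + 1)

theorem spc_G2 (k : Type) [Field k] [CharP k 3] [PerfectRing k 3] (m : ℕ) : Spc tyG2 3 (reeA k m) fl (exG2 m) :=
  spc_of_spec (H72.G2G.exists_spec k).choose_spec m

variable {k : Type} [Field k] [CharP k 3] [IsAlgClosed k]

/-- the datum of `²G₂(3 ^ (2 m + 1))` -/
noncomputable def datG2 (hk : LocFin k) (m : ℕ) : Datum 3 (chevG2.group k).subtype (reeA k m) ⊤ :=
  (spc_G2 k m).datum (spcD_G2 m) hk (Nat.succ_pos _)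

theorem qs_G2 (hk : LocFin k) (m : ℕ) : (datG2 hk m).QSp sw2 := Spc.qs _ _ _ _

theorem ex_G2 (hk : LocFin k) (m : ℕ) (i : Fin 2) : (datG2 hk m).ex (sr i) = (![m + 1, m] : Fin 2 → ℕ) i := by
  refine (Spc.ex_sr _ _ _ _ i).trans ?_
  have h : ∀ i : Fin 2, la (chevG2.simple i) = (![3, 1] : Fin 2 → ℕ) i := by decide +kernel
  rw [exG2, h]
  fin_cases i <;> rfl

/-- the embedding of the finite group -/
noncomputable def embG2 {K : Type} [Field K] (f : K →+* k) (m : ℕ) :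
    ↥(twistedG2 K (3 ^ m)) →* ↥(chevG2.group k) :=
  (emb tyG2.inList f).comp (Subgroup.inclusion H72.G2G.tw_le)

theorem emb_G2 {K : Type} [Field K] [Fintype K] [CharP K 3] (f : K →+* k) {m : ℕ}
    (hK : Fintype.card K = 3 ^ (2 * m + 1)) : Emb (reeA k m) ⊤ (TT chevG2 k) (embG2 f m) 1 := by
  have h0 := spc_G2 K m
  have hβ : ∀ r < 12, ∀ t : K, reeA K m (H689.Ccp.X r t) = H689.Ccp.X (fl r) (t ^ (la r * 3 ^ m)) :=
    fun r hr t => (H72.G2G.exists_spec K).choose_spec.pow_odd m hr t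
  have hc := Spc.emb_comm f (F₀ := (reeA K m).toMonoidHom) h0 (spc_G2 k m)
  refine Emb.of_surj ((emb_injective tyG2.inList f).comp (Subgroup.inclusion_injective _)) (fun s => ⟨trivial, ?_⟩)
    fun y hy => ?_
  · show reeA k m (emb tyG2.inList f _) = emb tyG2.inList f _
    rw [hc]
    exact congrArg _ ((H72.G2G.fix_iff hK hβ _).2 s.2)
  · obtain ⟨z, rfl⟩ := (spc_G2 k m).fix_range (spcD_G2 m) f hK invC_G2 one_ne_zero (fun a => ⟨a, pow_one a⟩) hy.2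
    have h1 : reeA k m (emb tyG2.inList f z) = emb tyG2.inList f z := hy.2
    rw [hc] at h1
    exact ⟨⟨z, (H72.G2G.fix_iff hK hβ z).1 (emb_injective _ f h1)⟩, rfl⟩

end Cfsg.Agent.DL.Tw
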