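import Cfsg.Agent.DL.Tw.Emb
import Cfsg.Agent.H493.TwE6Alg
import Cfsg.Agent.H129.TriD4
import Cfsg.Agent.H759.TwF.Emb

/-!
# The data of `²E₆(q)`, `³D₄(q)`, `²F₄(q)` (helper6)

* `setup` : the algebraic closure of a field with `q ^ j` elements;
* `datE6`, `qs_E6`, `emb_E6` (`d = gcd 3 (q + 1)`); `datD4`, `qs_D4`, `emb_D4` (`d = 1`);
* `steA k m`, `spcD_F4`, `spc_F4`, `datF4`, `qs_F4`, `ex_F4`, `emb_F4` (`d = 1`, all `m`, so `²F₄(2)` is included).
-/

set_option autoImplicit false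
set_option linter.unusedSectionVars false

namespace Cfsg.Agent.DL.Tw

open CoxeterSystem Cfsg Cfsg.Lie Cfsg.Lie.ChevalleyDatum
open Cfsg.Agent.ChevalleyStructure Cfsg.Agent.ChevalleyStructure.Elts Cfsg.Agent.ChevalleyStructure.CoxeterGeom
  Cfsg.Agent.ChevalleyStructure.CoxeterGeomTypes Cfsg.Agent.ChevalleyStructure.NPerm
open Cfsg.Agent.Tits.Roots Cfsg.Agent.Tits.Core Cfsg.Agent.Nodes Cfsg.Agent.Nodes.Reps Cfsg.Agent.Nodes.BNOf
  Cfsg.Agent.Nodes.RGDChev Cfsg.Agent.Nodes.Bruhat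
open Cfsg.Agent.KFacts.RgdField Cfsg.Agent.KFacts.RgdChevCoord Cfsg.Agent.BpExc.TorChev
open Cfsg.Agent.GpExc.Field Cfsg.Agent.BpExc.Tow Cfsg.Agent.BpExc.TowChev Cfsg.Agent.BpExc.Fr
  Cfsg.Agent.BpExc.LangFr Cfsg.Agent.LangThm Cfsg.Agent.BpExc Cfsg.Agent.H129.TorusChar Cfsg.Agent.DL.Ex

/-- the algebraic closure of a field with `q ^ j` elements -/
theorem setup {K : Type} [Field K] [Fintype K] {q j : ℕ} (hq : IsPrimePow q) (hj : j ≠ 0)
    (hK : Fintype.card K = q ^ j) :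
    ∃ (p e : ℕ) (_ : Fact p.Prime) (_ : CharP K p) (_ : CharP (AlgebraicClosure K) p), 0 < e ∧ q = p ^ e ∧
      LocFin (AlgebraicClosure K) := by
  obtain ⟨p, e', hpF, hpc, hpk, -, hpe, hk⟩ := H129.TorusUntw.exists_closure hK
  obtain ⟨p', e, hp', he, hqe'⟩ := id hq
  have hpp : p' = p := by
    have h1 : p' ∣ p ^ e' := by
      rw [← hpe, ← hqe']
      exact dvd_pow (dvd_pow_self p' he.ne') hj
    exact (Nat.prime_dvd_prime_iff_eq hp'.nat_prime hpF.out).1 (hp'.nat_prime.dvd_of_dvd_pow h1)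
  subst hpp
  exact ⟨p', e, hpF, hpc, hpk, he, hqe'.symm, hk⟩

/-- the algebraic closure of a field with `p ^ j` elements -/
theorem setup' {K : Type} [Field K] [Fintype K] {p j : ℕ} (hp : p.Prime) (hj : j ≠ 0) (hK : Fintype.card K = p ^ j) :
    CharP K p ∧ CharP (AlgebraicClosure K) p ∧ LocFin (AlgebraicClosure K) := by
  obtain ⟨p', e, hp', h1, h2, he, h3, h4⟩ := setup hp.prime.isPrimePow hj hK
  have h5 : p' = p := (Nat.prime_dvd_prime_iff_eq hp'.out hp).1 (h3 ▸ dvd_pow_self p' he.ne')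
  subst h5
  exact ⟨h1, h2, h4⟩

section Graph

variable {p e : ℕ} [Fact p.Prime] {k : Type} [Field k] [CharP k p] [IsAlgClosed k]

/-! ### `²E₆(q)` -/

/-- the datum of `²E₆(q)`, `q = p ^ e` -/
noncomputable def datE6 (hk : LocFin k) (he : 0 < e) :
    Datum p (chevE6.group k).subtype (H493.TwE6Alg.tau k p e) ⊤ :=
  chevFr RGDTwE6.hp hk he H493.TwE6Alg.isFrob_tau (H493.TwE6Alg.fr_tau _)

theorem qs_E6 (hk : LocFin k) (he : 0 < e) : (datE6 (p := p) hk he).QSp H493.TwE6Alg.pi :=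
  H493.TwE6Alg.dua_sr

theorem ex_E6 (hk : LocFin k) (he : 0 < e) (a : Fin 6 → ℤ) : (datE6 (p := p) hk he).ex a = e := rfl

theorem emb_E6 {K : Type} [Field K] [Fintype K] (f : K →+* k) {q : ℕ} (hqe : q = p ^ e) (hq : IsPrimePow q)
    (hK : Fintype.card K = q ^ 2) :
    Emb (H493.TwE6Alg.tau k p e) ⊤ (TT chevE6 k) (H493.TwE6Alg.embT f q) (Nat.gcd 3 (q + 1)) where
  inj := H493.TwE6Alg.embT_injective f q
  mem s := ⟨trivial, H493.TwE6Alg.tau_embT f hqe hq hK s⟩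
  norm g hg y := by
    have h3 := EmbInst.twE6_normalizer (f := f) hq hK (H493.TwE6Alg.frob_apply hqe) g.2
      ((H493.TwE6Alg.tau_eq_iff g).1 hg.2)
    rw [Subgroup.mem_normalizer_iff] at h3
    obtain ⟨z, hz, hz'⟩ := (h3 (glMap chevE6 f y)).1 ⟨y, y.2, rfl⟩
    refine ⟨⟨z, hz⟩, Subtype.ext ?_⟩
    rw [H493.TwE6Alg.coe_embT, hz', Subgroup.coe_mul, Subgroup.coe_mul, Subgroup.coe_inv, H493.TwE6Alg.coe_embT]
  split g hg := by
    obtain ⟨x, hx, t, ht, h1⟩ := EmbInst.twE6_split (f := f) hq hK (H493.TwE6Alg.frob_apply hqe) g.2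
      ((H493.TwE6Alg.tau_eq_iff g).1 hg.2)
    let t' : ↥(chevE6.group k) := ⟨t, diagonal_le_group RGDTwE6.hp.inList k ht⟩
    have e1 : g = H493.TwE6Alg.embT f q ⟨x, hx⟩ * t' := by
      apply Subtype.ext
      rw [Subgroup.coe_mul, H493.TwE6Alg.coe_embT]
      exact h1
    refine ⟨⟨x, hx⟩, t', ⟨ht, ?_⟩, e1⟩
    have h2 : H493.TwE6Alg.tau k p e g = g := hg.2
    rw [e1, map_mul, H493.TwE6Alg.tau_embT f hqe hq hK] at h2
    exact mul_left_cancel h2
  pow _ hg := H493.TwE6Alg.tau_pow f hqe hq hK hg.2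

/-! ### `³D₄(q)` -/

/-- the datum of `³D₄(q)`, `q = p ^ e` -/
noncomputable def datD4 (hk : LocFin k) (he : 0 < e) :
    Datum p (chevD4.group k).subtype (H129.TriD4.tau k p e) ⊤ :=
  chevFr RGDTwD4.hp hk he H129.TriD4.isFrob_tau (H129.TriD4.fr_tau _)

/-- the triality -/
def piD4 : Fin 4 → Fin 4 := ![2, 1, 3, 0]

theorem qs_D4 (hk : LocFin k) (he : 0 < e) : (datD4 (p := p) hk he).QSp piD4 :=
  fun j => funext (H129.TriD4.tri_sr j)

theorem ex_D4 (hk : LocFin k) (he : 0 < e) (a : Fin 4 → ℤ) : (datD4 (p := p) hk he).ex a = e := rfl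

theorem emb_D4 {K : Type} [Field K] [Fintype K] (f : K →+* k) {q : ℕ} (hqe : q = p ^ e) (hq : IsPrimePow q)
    (hK : Fintype.card K = q ^ 3) :
    Emb (H129.TriD4.tau k p e) ⊤ (TT chevD4 k) (H129.TriD4.embT f hq hK) 1 :=
  Emb.of_surj (H129.TriD4.embT_injective f hq hK) (fun s => ⟨trivial, H129.TriD4.tau_embT f hqe hq hK s⟩)
    fun _ hg => H129.TriD4.tau_range f hqe hq hK hg.2

end Graph

/-! ### `²F₄(q)` -/

section F4

open Cfsg.Agent.H493.F4End (ste)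
open Cfsg.Agent.ChevalleyStructure.TwF4.Fix (isLong)
open Cfsg.Agent.ChevalleyStructure.TwF4.Rel (bar)

/-- the exponents -/
def exF4 (m r : ℕ) : ℕ := if isLong r then m else m + 1

theorem spcD_F4 (m : ℕ) : SpcD chevF4 4 bar (exF4 m) H493.F4Tor.rv (2 * m + 1) where
  lt := TwF4.Fix.bar_lt
  inv _ hr := H493.F4End.bar_bar hr
  neg r hr := by
    rw [H493.F4End.neg_eq r hr, H493.F4End.neg_eq _ (TwF4.Fix.bar_lt r hr), (H493.F4End.bar_neg r hr).1]
  exneg r hr := by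
    rw [H493.F4End.neg_eq r hr, exF4, exF4, (H493.F4End.bar_neg r hr).2]
  sum r hr := by
    rw [exF4, exF4, TwF4.Fix.isLong_bar r hr]
    cases isLong r
    · simp only [Bool.false_eq_true, if_false, Bool.not_false, if_true]
      omega
    · simp only [Bool.false_eq_true, if_false, Bool.not_true, if_true]
      omega
  simple i := (H493.F4Tor.simple_tab i).2.1

theorem spc_ste (K : Type) [Field K] [CharP K 2] (m : ℕ) : Spc H493.F4Tor.hp 2 (ste K m) bar (exF4 m) := by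
  have hx : ∀ r < 48, ∀ t : K, xc H493.F4Tor.hp (vec chevF4 4 r) t = H493.F4End.xg r t := by
    intro r hr t
    apply Subtype.ext
    rw [coe_xc H493.F4Tor.hp hr]
    exact (H493.F4End.X_eq r t).symm
  refine ⟨fun r hr t => ?_⟩
  rw [hx r hr, hx _ (TwF4.Fix.bar_lt r hr), H493.F4End.ste_xg m hr, H493.F4End.lm_eq, H493.F4End.ex, exF4]
  split_ifs
  · rw [one_mul]
  · rw [pow_succ' 2 m]

variable {k : Type} [Field k] [CharP k 2] [IsAlgClosed k]

/-- the Steinberg automorphism of `F₄(k)` -/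
noncomputable def steA (k : Type) [Field k] [CharP k 2] [IsAlgClosed k] (m : ℕ) : MulAut ↥(chevF4.group k) :=
  MulEquiv.ofBijective (ste k m) ((spc_ste k m).bijective (spcD_F4 m))

theorem steA_apply (m : ℕ) (y : ↥(chevF4.group k)) : steA k m y = ste k m y := rfl

theorem spc_F4 (m : ℕ) : Spc H493.F4Tor.hp 2 (steA k m) bar (exF4 m) := ⟨(spc_ste k m).act⟩

/-- the datum of `²F₄(2 ^ (2 m + 1))` -/
noncomputable def datF4 (hk : LocFin k) (m : ℕ) : Datum 2 (chevF4.group k).subtype (steA k m) ⊤ :=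
  (spc_F4 m).datum (spcD_F4 m) hk (Nat.succ_pos _)

theorem qs_F4 (hk : LocFin k) (m : ℕ) : (datF4 hk m).QSp H493.F4Tor.rv := Spc.qs _ _ _ _

theorem ex_F4 (hk : LocFin k) (m : ℕ) (i : Fin 4) :
    (datF4 hk m).ex (sr i) = (![m + 1, m + 1, m, m] : Fin 4 → ℕ) i := by
  refine (Spc.ex_sr _ _ _ _ i).trans ?_
  rw [exF4]
  have h : ∀ i : Fin 4, isLong (chevF4.simple i) = (![false, false, true, true] : Fin 4 → Bool) i := by
    decide +kernel
  rw [h]
  fin_cases i <;> rfl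

theorem emb_F4 {K : Type} [Field K] [Fintype K] [CharP K 2] (f : K →+* k) {m : ℕ}
    (hK : Fintype.card K = 2 ^ (2 * m + 1)) : Emb (steA k m) ⊤ (TT chevF4 k) (H759.TwF.eF m f) 1 :=
  Emb.of_surj (H759.TwF.eF_injective f) (fun s => ⟨trivial, H759.TwF.ste_eF hK f s⟩)
    fun _ hg => H759.TwF.exists_eF hK f hg.2

end F4

end Cfsg.Agent.DL.Tw
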