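import Cfsg.Agent.DL.Ex.Split
import Cfsg.Agent.DL.Dat.Frob
import Cfsg.Agent.H129.TorusUntw

/-!
# Finite groups inside `G^F`; special isogenies (helper6)

* `Emb F G T e d` : `e : S →* Y` is injective onto a normal subgroup of `G^F`, `G^F = e(S) T^F`, `d`-th powers lie in `e(S)`;
  `Emb.of_surj`, `Emb.normal`, `Emb.prime_dvd` (primes dividing the index divide `d`), `Emb.equiv` (`d = 1`);
* `Datum.QSp D π` : `F` permutes the simple root groups according to `π`; `QSp.qs`, `QSp.σ_eq`;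
* `Spc hp p F σ ex e` : `F x_r(t) = x_{σ r}(t ^ p ^ ex r)`, `σ` an involution; `Spc.sq`, `Spc.datum`, `Spc.fix_range`.
-/

set_option autoImplicit false
set_option linter.unusedSectionVars false

namespace Cfsg.Agent.DL

section Emb

variable {Y : Type} {S : Type*} [Group Y] [Group S]

/-- `S` as a normal subgroup of `G^F`. -/
structure Emb (F : MulAut Y) (G T : Subgroup Y) (e : S →* Y) (d : ℕ) : Prop where
  inj : Function.Injective e
  mem : ∀ s, e s ∈ GF F G
  norm : ∀ y ∈ GF F G, ∀ s, y * e s * y⁻¹ ∈ e.range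
  split : ∀ y ∈ GF F G, ∃ s, ∃ t ∈ GF F T, y = e s * t
  pow : ∀ y ∈ GF F G, y ^ d ∈ e.range

variable {F : MulAut Y} {G T : Subgroup Y} {e : S →* Y} {d : ℕ}

theorem Emb.of_surj (hi : Function.Injective e) (hm : ∀ s, e s ∈ GF F G) (hs : ∀ y ∈ GF F G, y ∈ e.range) :
    Emb F G T e 1 where
  inj := hi
  mem := hm
  norm y hy s := hs _ (mul_mem (mul_mem hy (hm s)) (inv_mem hy))
  split y hy := by
    obtain ⟨s, rfl⟩ := hs y hy
    exact ⟨s, 1, one_mem _, (mul_one _).symm⟩
  pow y hy := by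
    rw [pow_one]
    exact hs y hy

theorem Emb.range_le (h : Emb F G T e d) : e.range ≤ GF F G := by
  rintro _ ⟨s, rfl⟩
  exact h.mem s

theorem Emb.comp {S' : Type*} [Group S'] (h : Emb F G T e d) (φ : S' ≃* S) : Emb F G T (e.comp φ.toMonoidHom) d := by
  have hr : (e.comp φ.toMonoidHom).range = e.range := by
    ext y
    constructor
    · rintro ⟨s, rfl⟩
      exact ⟨φ s, rfl⟩
    · rintro ⟨s, rfl⟩
      exact ⟨φ.symm s, by simp⟩
  refine ⟨h.inj.comp φ.injective, fun s => h.mem _, fun y hy s => hr ▸ h.norm y hy _, fun y hy => ?_,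
    fun y hy => hr ▸ h.pow y hy⟩
  obtain ⟨s, t, ht, rfl⟩ := h.split y hy
  exact ⟨φ.symm s, t, ht, by simp⟩

/-- the embedding into `G^F` -/
def Emb.hom (h : Emb F G T e d) : S →* ↥(GF F G) := e.codRestrict _ h.mem

theorem Emb.coe_hom (h : Emb F G T e d) (s : S) : (h.hom s : Y) = e s := rfl

theorem Emb.hom_injective (h : Emb F G T e d) : Function.Injective h.hom := fun _ _ hab =>
  h.inj (congrArg Subtype.val hab)

theorem Emb.mem_range_hom (h : Emb F G T e d) {y : ↥(GF F G)} : y ∈ h.hom.range ↔ (y : Y) ∈ e.range :=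
  ⟨fun ⟨s, hs⟩ => ⟨s, congrArg Subtype.val hs⟩, fun ⟨s, hs⟩ => ⟨s, Subtype.ext hs⟩⟩

theorem Emb.normal (h : Emb F G T e d) : h.hom.range.Normal := by
  refine ⟨fun a ha y => ?_⟩
  obtain ⟨s, rfl⟩ := ha
  exact h.mem_range_hom.2 (h.norm y y.2 s)

/-- the primes dividing the index divide `d` -/
theorem Emb.prime_dvd (h : Emb F G T e d) [Finite ↥(GF F G)] {r : ℕ} (hr : r.Prime) (hd : r ∣ h.hom.range.index) :
    r ∣ d := by
  have := h.normal
  have := Fact.mk hr
  obtain ⟨x, hx⟩ := exists_prime_orderOf_dvd_card' (G := ↥(GF F G) ⧸ h.hom.range) r hd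
  obtain ⟨y, rfl⟩ := QuotientGroup.mk_surjective x
  rw [← hx]
  apply orderOf_dvd_of_pow_eq_one
  rw [← QuotientGroup.mk_pow, QuotientGroup.eq_one_iff]
  exact h.mem_range_hom.2 (h.pow y y.2)

theorem Emb.coprime_index (h : Emb F G T e d) [Finite ↥(GF F G)] {r : ℕ} (hr : r.Coprime d) :
    r.Coprime h.hom.range.index := by
  refine Nat.coprime_of_dvd fun q hq h1 h2 => ?_
  exact hq.one_lt.ne' (Nat.eq_one_of_dvd_coprimes hr h1 (h.prime_dvd hq h2))

theorem Emb.surj (h : Emb F G T e 1) : Function.Surjective h.hom := fun y => by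
  have h1 := h.pow y y.2
  rw [pow_one] at h1
  exact h.mem_range_hom.2 h1

/-- `S ≃* G^F` if `d = 1` -/
noncomputable def Emb.equiv (h : Emb F G T e 1) : S ≃* ↥(GF F G) :=
  MulEquiv.ofBijective h.hom ⟨h.hom_injective, h.surj⟩

end Emb

namespace Datum

open Cfsg.Agent.Tits.Roots Cfsg.Agent.ChevalleyStructure.CoxeterGeom

variable {p : ℕ} [Fact p.Prime] {k : Type} [Field k] [CharP k p] {Y : Type} [Group Y] {N : Type} [Fintype N]
  [DecidableEq N] {ρ : Y →* GL N k} {F : MulAut Y} {G : Subgroup Y}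

/-- `F` permutes the simple root groups -/
def QSp (D : Datum p ρ F G) (π : D.I → D.I) : Prop := ∀ i, D.g (sr i) = sr (π i)

theorem QSp.qs [IsAlgClosed k] {D : Datum p ρ F G} {π : D.I → D.I} (h : D.QSp π) : D.QS := by
  rw [D.qs_iff_wF]
  refine eq_one_of_nonneg D.cs D.h _ fun i => ?_
  obtain ⟨j, rfl⟩ := D.σ.surjective i
  have h1 := sr_nonneg (π j)
  rwa [← h j, g_sr] at h1

theorem QSp.σ_eq [IsAlgClosed k] {D : Datum p ρ F G} {π : D.I → D.I} (h : D.QSp π) (i : D.I) : D.σ i = π i := by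
  have h1 := h.qs.g_sr i
  rw [h i] at h1
  by_contra hne
  have h2 := congrFun h1 (π i)
  rw [sr_self, sr_ne (Ne.symm hne)] at h2
  exact one_ne_zero h2

end Datum

namespace Tw

open CoxeterSystem Cfsg Cfsg.Lie Cfsg.Lie.ChevalleyDatum
open Cfsg.Agent.ChevalleyStructure Cfsg.Agent.ChevalleyStructure.Elts Cfsg.Agent.ChevalleyStructure.CoxeterGeom
  Cfsg.Agent.ChevalleyStructure.CoxeterGeomTypes Cfsg.Agent.ChevalleyStructure.NPerm
open Cfsg.Agent.Tits.Roots Cfsg.Agent.Tits.Core Cfsg.Agent.Nodes Cfsg.Agent.Nodes.Reps Cfsg.Agent.Nodes.BNOf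
  Cfsg.Agent.Nodes.RGDChev Cfsg.Agent.Nodes.Bruhat
open Cfsg.Agent.KFacts.RgdField Cfsg.Agent.KFacts.RgdChevCoord Cfsg.Agent.BpExc.TorChev
open Cfsg.Agent.GpExc.Field Cfsg.Agent.BpExc.Tow Cfsg.Agent.BpExc.TowChev Cfsg.Agent.BpExc.Fr
  Cfsg.Agent.BpExc.LangFr Cfsg.Agent.LangThm Cfsg.Agent.BpExc Cfsg.Agent.H129.TorusChar Cfsg.Agent.DL.Ex

variable {D : ChevalleyDatum} {l : ℕ} {M : CoxeterMatrix (Fin l)} (hp : IsType D l M)

/-- homomorphisms are determined by their values on the root elements -/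
theorem hom_ext {k : Type} [Field k] {Z : Type*} [Group Z] {α β : ↥(D.group k) →* Z}
    (h : ∀ r < D.nroots, ∀ t, α (xc hp (vec D l r) t) = β (xc hp (vec D l r) t)) : α = β := by
  have h1 : D.group k ≤ (α.eqLocus β).map (D.group k).subtype := by
    rw [group_le_iff hp.inList]
    intro r hr t
    exact ⟨xc hp (vec D l r) t, h r hr t, coe_xc hp hr t⟩
  ext y
  obtain ⟨z, hz, e⟩ := h1 y.2
  have e' : z = y := Subtype.ext e
  subst e'
  exact hz

include hp in
theorem idx_sr (i : Fin l) : idx D l (sr i) = D.simple i := by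
  rw [← vec_simple hp i, idx_vec hp (simple_lt hp.inList (lt_rank hp _))]

/-- the combinatorial data of a special isogeny -/
structure SpcD (D : ChevalleyDatum) (l : ℕ) (σ ex : ℕ → ℕ) (π : Fin l → Fin l) (e : ℕ) : Prop where
  lt : ∀ r < D.nroots, σ r < D.nroots
  inv : ∀ r < D.nroots, σ (σ r) = r
  neg : ∀ r < D.nroots, σ (D.neg r) = D.neg (σ r)
  exneg : ∀ r < D.nroots, ex (D.neg r) = ex r
  sum : ∀ r < D.nroots, ex r + ex (σ r) = e
  simple : ∀ i : Fin l, σ (D.simple i) = D.simple (π i)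

/-- a special isogeny -/
structure Spc (p : ℕ) {k : Type} [Field k] (F : ↥(D.group k) → ↥(D.group k)) (σ ex : ℕ → ℕ) : Prop where
  act : ∀ r < D.nroots, ∀ t, F (xc hp (vec D l r) t) = xc hp (vec D l (σ r)) (t ^ p ^ ex r)

variable {hp} {p : ℕ} [Fact p.Prime] {k : Type} [Field k] [CharP k p] {σ ex : ℕ → ℕ} {π : Fin l → Fin l} {e : ℕ}

theorem SpcD.pi_pi (C : SpcD D l σ ex π e) (hp : IsType D l M) (i : Fin l) : π (π i) = i := by
  have h1 := C.inv _ (simple_lt hp.inList (lt_rank hp i))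
  rw [C.simple, C.simple] at h1
  have h2 := congrArg (vec D l) h1
  rw [vec_simple hp, vec_simple hp] at h2
  by_contra hne
  have h3 := congrFun h2 i
  rw [sr_self, sr_ne (Ne.symm hne)] at h3
  exact zero_ne_one h3

theorem Spc.sq_hom {F : ↥(D.group k) →* ↥(D.group k)} (h : Spc hp p F σ ex) (C : SpcD D l σ ex π e)
    (y : ↥(D.group k)) : F (F y) = emb hp.inList (iterateFrobenius k p e) y := by
  have h1 : F.comp F = emb hp.inList (iterateFrobenius k p e) := by
    refine hom_ext hp fun r hr t => ?_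
    rw [MonoidHom.comp_apply, h.act r hr, h.act _ (C.lt r hr), C.inv r hr, ← pow_mul, ← pow_add, C.sum r hr, emb_xc,
      iterateFrobenius_def]
  exact DFunLike.congr_fun h1 y

theorem Spc.map_T {F : ↥(D.group k) →* ↥(D.group k)} (h : Spc hp p F σ ex) (C : SpcD D l σ ex π e)
    {t : ↥(D.group k)} (ht : t ∈ TT D k) : F t ∈ TT D k := by
  have hn : ∀ r < D.nroots, ∀ u : k, ∃ y : ↥(D.group k), (y : GL D.Idx k) = nG hp.inList r u ∧
      (F y : GL D.Idx k) = nG hp.inList (σ r) (u ^ p ^ ex r) := by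
    intro r hr u
    have hr' := neg_lt hp.inList hr
    refine ⟨xc hp (vec D l r) u * (xc hp (vec D l (D.neg r)) (-u⁻¹) * xc hp (vec D l r) u), ?_, ?_⟩
    · rw [Subgroup.coe_mul, Subgroup.coe_mul, coe_xc hp hr, coe_xc hp hr', nG_def]
    · rw [map_mul, map_mul, h.act r hr, h.act _ hr', Subgroup.coe_mul, Subgroup.coe_mul, coe_xc hp (C.lt r hr),
        coe_xc hp (C.lt _ hr'), nG_def, C.neg r hr, C.exneg r hr, ← iterateFrobenius_def p (ex r) (-u⁻¹), map_neg,
        map_inv₀, iterateFrobenius_def]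
  have h1 : D.diagonalSubgroup k ≤ ((TT D k).comap F).map (D.group k).subtype := by
    rw [diagonal_le_iff hp.inList]
    intro r hr u hu
    obtain ⟨y, hy1, hy2⟩ := hn r hr u
    obtain ⟨z, hz1, hz2⟩ := hn r hr (-1)
    refine ⟨y * z, ?_, ?_⟩
    · show ((F (y * z) : ↥(D.group k)) : GL D.Idx k) ∈ D.diagonalSubgroup k
      rw [map_mul, Subgroup.coe_mul, hy2, hz2, ← iterateFrobenius_def p (ex r) (-1), map_neg, map_one, ← hG_def]
      exact hG_mem_diagonal _ (C.lt r hr) (pow_ne_zero _ hu)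
    · show ((y * z : ↥(D.group k)) : GL D.Idx k) = _
      rw [Subgroup.coe_mul, hy1, hz1, hG_def]
  obtain ⟨z, hz, e⟩ := h1 ht
  have e' : z = t := Subtype.ext e
  subst e'
  exact hz

variable [IsAlgClosed k]

theorem Spc.bijective {F : ↥(D.group k) →* ↥(D.group k)} (h : Spc hp p F σ ex) (C : SpcD D l σ ex π e) :
    Function.Bijective F := by
  have h1 : F ∘ F = frobA hp.inList p e := funext fun y => h.sq_hom C y
  have h2 : Function.Bijective (F ∘ F) := h1 ▸ (frobA hp.inList p e).bijective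
  exact ⟨h2.1.of_comp, h2.2.of_comp⟩

variable {F : MulAut ↥(D.group k)}

theorem Spc.sq (h : Spc hp p F σ ex) (C : SpcD D l σ ex π e) (y : ↥(D.group k)) :
    F (F y) = frobA hp.inList p e y := Spc.sq_hom (F := F.toMonoidHom) h C y

theorem Spc.amb (h : Spc hp p F σ ex) (C : SpcD D l σ ex π e) (hk : LocFin k) (he : 0 < e) :
    Amb p (D.group k).subtype F where
  lf := lf_of_locFin hk
  inj := (D.group k).subtype_injective
  frob := ⟨2, e, two_pos, he, fun y => by
    rw [pow_two, MulAut.mul_apply, h.sq C]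
    rfl⟩

/-- **The datum of a special isogeny.** -/
noncomputable def Spc.datum (h : Spc hp p F σ ex) (C : SpcD D l σ ex π e) (hk : LocFin k) (he : 0 < e) :
    Datum p (D.group k).subtype F ⊤ :=
  chevF hp hk (h.amb C hk he) (fun a => vec D l (σ (idx D l a))) (fun a => ex (idx D l a))
    (fun a ha => by
      obtain ⟨r, hr, rfl⟩ := (isRoot_iff hp _ a).1 ha
      rw [idx_vec hp hr]
      exact (isRoot_iff hp _ _).2 ⟨_, C.lt r hr, rfl⟩)
    (fun a ha => by
      obtain ⟨r, hr, rfl⟩ := (isRoot_iff hp _ a).1 ha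
      refine ⟨1, one_ne_zero, fun u => ?_⟩
      rw [idx_vec hp hr, h.act r hr, one_mul])
    (fun _ ht => Spc.map_T (F := F.toMonoidHom) h C ht) (fun i => sr (π i)) (fun _ => isRoot_sr _ _ _)
    (fun i => by
      rw [← vec_simple hp, idx_vec hp (simple_lt hp.inList (lt_rank hp _)), C.simple, C.pi_pi hp, vec_simple hp])

theorem Spc.qs (h : Spc hp p F σ ex) (C : SpcD D l σ ex π e) (hk : LocFin k) (he : 0 < e) :
    (h.datum C hk he).QSp π := by
  intro (i : Fin l)
  show vec D l (σ (idx D l (sr i))) = sr (π i)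
  rw [idx_sr hp i, C.simple, vec_simple hp]

theorem Spc.ex_sr (h : Spc hp p F σ ex) (C : SpcD D l σ ex π e) (hk : LocFin k) (he : 0 < e) (i : Fin l) :
    (h.datum C hk he).ex (sr i) = ex (D.simple i) := by
  show ex (idx D l (sr i)) = _
  rw [idx_sr hp i]

/-- the special isogenies of a subfield and of `k` are compatible -/
theorem Spc.emb_comm {K : Type} [Field K] (f : K →+* k) {F₀ : ↥(D.group K) →* ↥(D.group K)} (h₀ : Spc hp p F₀ σ ex)
    (h : Spc hp p F σ ex) (y : ↥(D.group K)) : F (emb hp.inList f y) = emb hp.inList f (F₀ y) := by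
  have h1 : F.toMonoidHom.comp (emb hp.inList f) = (emb hp.inList f).comp F₀ := by
    refine hom_ext hp fun r hr t => ?_
    show F (emb hp.inList f _) = emb hp.inList f (F₀ _)
    rw [h₀.act r hr, emb_xc, emb_xc, h.act r hr, map_pow]
  exact DFunLike.congr_fun h1 y

/-- the fixed points are defined over the field with `p ^ e` elements -/
theorem Spc.fix_range (h : Spc hp p F σ ex) (C : SpcD D l σ ex π e) {K : Type} [Field K] [Fintype K] (f : K →+* k)
    (hK : Fintype.card K = p ^ e) {d : ℕ} {B : Fin l → Fin l → ℤ} (hB : InvC D l d B) (hd : d ≠ 0)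
    (hF : ∀ a : K, ∃ b : K, b ^ d = a) {y : ↥(D.group k)} (hy : F y = y) : y ∈ (GpExc.Field.emb hp.inList f).range := by
  refine H129.TorusUntw.fix_range hp M.toCoxeterSystem f hK hB hd hF ?_
  have h1 := h.sq C y
  rw [hy, hy] at h1
  rw [H129.TorusUntw.phi_eq hp]
  exact h1.symm

end Tw

end Cfsg.Agent.DL
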