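import Cfsg.Agent.DL.Tw.Emb
import Cfsg.Agent.ChevalleyStructure.B2Sp4
import Cfsg.Agent.ChevalleyStructure.GraphB2
import Cfsg.Agent.LieRecognition.SzMatrix

/-!
# The datum of `²B₂(q)` (helper6)

`szA k m`, `spcD_B2`, `spc_B2`, `datB2`, `qs_B2`, `ex_B2`, `embB2`, `emb_B2` (`d = 1`, all `m`).
-/

set_option autoImplicit false
set_option linter.unusedSectionVars false

namespace Cfsg.Agent.DL.Tw

open CoxeterSystem Cfsg Cfsg.Lie Cfsg.Lie.ChevalleyDatum
open Cfsg.Agent.ChevalleyStructure Cfsg.Agent.ChevalleyStructure.Elts Cfsg.Agent.ChevalleyStructure.CoxeterGeom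
  Cfsg.Agent.ChevalleyStructure.CoxeterGeomTypes Cfsg.Agent.ChevalleyStructure.NPerm
open Cfsg.Agent.Tits.Roots Cfsg.Agent.Tits.Core Cfsg.Agent.Nodes Cfsg.Agent.Nodes.Reps Cfsg.Agent.Nodes.BNOf
  Cfsg.Agent.Nodes.RGDChev Cfsg.Agent.Nodes.Bruhat
open Cfsg.Agent.KFacts.RgdField Cfsg.Agent.KFacts.RgdChevCoord Cfsg.Agent.BpExc.TorChev
open Cfsg.Agent.GpExc.Field Cfsg.Agent.BpExc.Tow Cfsg.Agent.BpExc.TowChev Cfsg.Agent.BpExc.Fr
  Cfsg.Agent.BpExc.LangFr Cfsg.Agent.LangThm Cfsg.Agent.BpExc Cfsg.Agent.H129.TorusChar Cfsg.Agent.DL.Ex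
open Cfsg.Agent.ChevalleyStructure.B2Rep (I4 uM uS eZ sZ)
open Cfsg.Agent.LieRecognition
open scoped Matrix

theorem tyB2 : IsType chevB2 2 (CoxeterMatrix.B 2) := by simp [IsType, typeList]

/-- the permutation of the roots -/
def brB (r : ℕ) : ℕ := [1, 0, 3, 2, 5, 4, 7, 6].getD r 0

/-- the exponents of the graph automorphism -/
def lgB (r : ℕ) : ℕ := [0, 1, 1, 0, 0, 1, 1, 0].getD r 0

/-- the swap of the two nodes -/
def swB : Fin 2 → Fin 2 := ![1, 0]

theorem tabB : ∀ r < 8, brB r < 8 ∧ brB (brB r) = r ∧ brB (chevB2.neg r) = chevB2.neg (brB r) ∧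
    lgB (chevB2.neg r) = lgB r ∧ lgB r + lgB (brB r) = 1 ∧ GraphTabB2.tabB2.bar.getD r 0 = brB r ∧
    GraphTabB2.tabB2.lam.getD r 0 = 2 ^ lgB r := by
  decide +kernel

theorem spcD_B2 (m : ℕ) : SpcD chevB2 2 brB (fun r => m + lgB r) swB (2 * m + 1) where
  lt r hr := (tabB r hr).1
  inv r hr := (tabB r hr).2.1
  neg r hr := (tabB r hr).2.2.1
  exneg r hr := by rw [(tabB r hr).2.2.2.1]
  sum r hr := by
    have := (tabB r hr).2.2.2.2.1
    omega
  simple := by decide +kernel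

section Gam

variable (k : Type) [Field k] [CharP k 2] [PerfectRing k 2]

theorem perf2 (x : k) : ∃ y : k, y ^ 2 = x := (PerfectRing.bijective_frobenius (R := k) (p := 2)).2 x

/-- the graph automorphism -/
noncomputable def gamB : MulAut ↥(chevB2.group k) := (GraphB2.exists_graph k (perf2 k)).choose

theorem spc_gamB : Spc tyB2 2 (gamB k) brB lgB := by
  refine ⟨fun r hr t => ?_⟩
  apply Subtype.ext
  apply Units.ext
  have h := (GraphB2.exists_graph k (perf2 k)).choose_spec (xc tyB2 (vec chevB2 2 r) t) r t hr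
    (by rw [coe_xc tyB2 hr]; rfl)
  rw [(tabB r hr).2.2.2.2.2.1, (tabB r hr).2.2.2.2.2.2] at h
  rw [coe_xc tyB2 (tabB r hr).1]
  exact h

/-- the Steinberg automorphism of `B₂(k)` -/
noncomputable def szA (m : ℕ) : MulAut ↥(chevB2.group k) :=
  gamB k * autE tyB2.inList (iterateFrobeniusEquiv k 2 m)

theorem spc_B2 (m : ℕ) : Spc tyB2 2 (szA k m) brB (fun r => m + lgB r) := by
  refine ⟨fun r hr t => ?_⟩
  rw [szA, MulAut.mul_apply, autE_apply, emb_xc, (spc_gamB k).act r hr, pow_add, pow_mul]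
  rfl

variable {k}

theorem szA_eq_iff (m : ℕ) (y : ↥(chevB2.group k)) :
    szA k m y = y ↔ gamB k y = emb tyB2.inList (iterateFrobenius k 2 (m + 1)) y := by
  have h1 : (gamB k).toMonoidHom.comp (szA k m).toMonoidHom = emb tyB2.inList (iterateFrobenius k 2 (m + 1)) := by
    refine hom_ext tyB2 fun r hr t => ?_
    show gamB k (szA k m _) = _
    rw [(spc_B2 k m).act r hr, (spc_gamB k).act _ (tabB r hr).1, (tabB r hr).2.1, emb_xc, iterateFrobenius_def,
      ← pow_mul, ← pow_add, add_assoc, (tabB r hr).2.2.2.2.1]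
  have h2 : gamB k (szA k m y) = emb tyB2.inList (iterateFrobenius k 2 (m + 1)) y := DFunLike.congr_fun h1 y
  rw [← h2, (gamB k).injective.eq_iff, eq_comm]

end Gam

section Sp

variable {K : Type} [Field K] [CharP K 2]

/-- the reordering of the basis -/
def ixB : Fin 4 ≃ I4 where
  toFun := ![.inl 0, .inl 1, .inr 1, .inr 0]
  invFun := Sum.elim ![0, 1] ![3, 2]
  left_inv := by decide
  right_inv := by decide

theorem J_sub : (Matrix.J (Fin 2) K).submatrix ixB ixB = SzMatrix.J K := by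
  ext i j
  fin_cases i <;> fin_cases j <;> simp [ixB, Matrix.J, SzMatrix.J, CharTwo.neg_eq]

theorem sub_mem (A : Matrix.symplecticGroup (Fin 2) K) :
    ((A : Matrix I4 I4 K).submatrix ixB ixB)ᵀ * SzMatrix.J K * (A : Matrix I4 I4 K).submatrix ixB ixB =
      SzMatrix.J K := by
  rw [← J_sub, Matrix.transpose_submatrix, Matrix.submatrix_mul_equiv, Matrix.submatrix_mul_equiv,
    SymplecticGroup.mem_iff'.1 A.2]

/-- the symplectic group in the basis of `Sp4` -/
noncomputable def toSp (K : Type) [Field K] [CharP K 2] : Matrix.symplecticGroup (Fin 2) K →* GL (Fin 4) K :=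
  MonoidHom.mk' (fun A => SzMatrix.ofSp _ (sub_mem A)) fun A B => by
    apply Units.ext
    rw [Units.val_mul, SzMatrix.ofSp_val, SzMatrix.ofSp_val, SzMatrix.ofSp_val, Matrix.submatrix_mul_equiv]
    rfl

theorem coe_toSp (A : Matrix.symplecticGroup (Fin 2) K) :
    (toSp K A : Matrix (Fin 4) (Fin 4) K) = (A : Matrix I4 I4 K).submatrix ixB ixB := rfl

theorem toSp_mem (A : Matrix.symplecticGroup (Fin 2) K) : toSp K A ∈ Sp4 K :=
  (SzMatrix.mem_Sp4_iff _).2 (sub_mem A)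

theorem toSp_inj : Function.Injective (toSp K) := by
  intro A B h
  have h1 := congrArg (fun g : GL (Fin 4) K => (g : Matrix (Fin 4) (Fin 4) K).submatrix ixB.symm ixB.symm) h
  simp only [coe_toSp, Matrix.submatrix_submatrix, Equiv.self_comp_symm, Matrix.submatrix_id_id] at h1
  exact Subtype.ext h1

theorem toSp_surj {g : GL (Fin 4) K} (hg : g ∈ Sp4 K) : ∃ A, toSp K A = g := by
  have h1 := (SzMatrix.mem_Sp4_iff g).1 hg
  refine ⟨⟨(g : Matrix (Fin 4) (Fin 4) K).submatrix ixB.symm ixB.symm, SymplecticGroup.mem_iff'.2 ?_⟩, Units.ext ?_⟩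
  · have h2 : Matrix.J (Fin 2) K = (SzMatrix.J K).submatrix ixB.symm ixB.symm := by
      rw [← J_sub, Matrix.submatrix_submatrix, Equiv.self_comp_symm, Matrix.submatrix_id_id]
    rw [h2, Matrix.transpose_submatrix, Matrix.submatrix_mul_equiv, Matrix.submatrix_mul_equiv, h1]
  · rw [coe_toSp]
    simp only [Matrix.submatrix_submatrix, Equiv.symm_comp_self, Matrix.submatrix_id_id]

/-- the isomorphism onto the Chevalley group -/
noncomputable def toCh (K : Type) [Field K] : Matrix.symplecticGroup (Fin 2) K →* ↥(chevB2.group K) :=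
  (B2Sp4.Phi K).codRestrict _ fun A => B2Sp4.range_Phi (F := K) ▸ ⟨A, rfl⟩

theorem toCh_inj : Function.Injective (toCh K) := by
  rw [injective_iff_map_eq_one]
  intro A hA
  rcases (B2Sp4.Phi_eq_one_iff A).1 (congrArg Subtype.val hA) with h | h
  · exact Subtype.ext h
  · refine Subtype.ext (h.trans ?_)
    ext i j
    rw [Matrix.neg_apply, CharTwo.neg_eq]
    rfl

omit [CharP K 2] in
theorem toCh_surj : Function.Surjective (toCh K) := by
  intro y
  obtain ⟨A, hA⟩ : (y : GL chevB2.Idx K) ∈ (B2Sp4.Phi K).range := by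
    rw [B2Sp4.range_Phi]
    exact y.2
  exact ⟨A, Subtype.ext hA⟩

omit [CharP K 2] in
theorem toCh_uS (r : Fin chevB2.nroots) (t : K) : toCh K (uS K r t) = xc tyB2 (vec chevB2 2 r) t := by
  apply Subtype.ext
  apply Units.ext
  rw [coe_xc tyB2 r.2]
  refine (B2Sp4.Phi_uS r t).trans ?_
  rw [coe_xG, x_of_lt r.2]

theorem transfer (s : Matrix (Fin 4) (Fin 4) K → Matrix (Fin 4) (Fin 4) K)
    (hs : ∀ g ∈ Sp4 K, ∀ h ∈ Sp4 K, s ((g * h : GL (Fin 4) K) : Matrix _ _ K) = s g * s h) (hs1 : s 1 = 1)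
    (β : ↥(chevB2.group K) →* ↥(chevB2.group K))
    (hg : ∀ r t, ∃ r' t', s ((uM K r t).submatrix ixB ixB) = (uM K r' t').submatrix ixB ixB ∧
      β (toCh K (uS K r t)) = toCh K (uS K r' t')) (A : Matrix.symplecticGroup (Fin 2) K) :
    ∃ B, (toSp K B : Matrix (Fin 4) (Fin 4) K) = s (toSp K A) ∧ toCh K B = β (toCh K A) := by
  have hA : A ∈ B2Sp4.gam K := by rw [B2Sp4.gam_eq_top]; trivial
  induction hA using Subgroup.closure_induction with
  | mem A hA =>
    obtain ⟨r, t, rfl⟩ := hA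
    obtain ⟨r', t', h1, h2⟩ := hg r t
    exact ⟨uS K r' t', h1.symm, h2.symm⟩
  | one => exact ⟨1, by rw [map_one, Units.val_one, hs1], by rw [map_one, map_one]⟩
  | mul A A' _ _ h h' =>
    obtain ⟨B, h1, h2⟩ := h
    obtain ⟨B', h3, h4⟩ := h'
    exact ⟨B * B', by rw [map_mul, map_mul, hs _ (toSp_mem A) _ (toSp_mem A'), Units.val_mul, h1, h3],
      by rw [map_mul, map_mul, map_mul, h2, h4]⟩
  | inv A _ h =>
    obtain ⟨B, h1, h2⟩ := h
    refine ⟨B⁻¹, ?_, by rw [map_inv, map_inv, map_inv, h2]⟩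
    have h3 := hs _ (toSp_mem A⁻¹) _ (toSp_mem A)
    rw [← map_mul, inv_mul_cancel, map_one, Units.val_one, hs1, ← h1] at h3
    rw [map_inv]
    exact Units.inv_eq_of_mul_eq_one_left h3.symm

theorem star_uM (r : Fin chevB2.nroots) (t : K) :
    star4 ((uM K r t).submatrix ixB ixB) =
      (uM K ⟨brB r, (tabB r r.2).1⟩ (t ^ 2 ^ lgB r)).submatrix ixB ixB := by
  rw [SzMatrix.star4_explicit]
  ext i j
  fin_cases r <;> fin_cases i <;> fin_cases j <;>
    simp [uM, eZ, sZ, ixB, brB, lgB, CharTwo.neg_eq, pow_two]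

omit [CharP K 2] in
theorem map_uM (θ : K →+* K) (r : Fin chevB2.nroots) (t : K) :
    ((uM K r t).submatrix ixB ixB).map θ = (uM K r (θ t)).submatrix ixB ixB := by
  ext i j
  simp only [uM, Matrix.map_apply, Matrix.submatrix_apply, Matrix.add_apply, Matrix.smul_apply, smul_eq_mul, map_add,
    map_mul, Int.coe_castRingHom, map_intCast, Matrix.one_apply, apply_ite θ, map_one, map_zero]

theorem mem_Sz_iff [Fintype K] {m : ℕ} (hK : Fintype.card K = 2 ^ (2 * m + 1))
    (A : Matrix.symplecticGroup (Fin 2) K) : toSp K A ∈ Lie.Sz K (2 ^ (m + 1)) ↔ szA K m (toCh K A) = toCh K A := by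
  obtain ⟨B, h1, h2⟩ := transfer star4 (fun g hg h hh => SzMatrix.star4_mul (SzMatrix.two_eq_zero hK) hg hh)
    SzMatrix.star4_one (gamB K).toMonoidHom (fun r t => ⟨_, _, star_uM r t, by
      rw [toCh_uS, toCh_uS]
      exact (spc_gamB K).act r r.2 t⟩) A
  obtain ⟨B', h3, h4⟩ := transfer (fun X => X.map (SzMatrix.theta hK))
    (fun g _ h _ => by rw [Units.val_mul, Matrix.map_mul]) (by simp)
    (emb tyB2.inList (iterateFrobenius K 2 (m + 1))) (fun r t => ⟨_, _, map_uM _ r t, by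
      rw [toCh_uS, toCh_uS, emb_xc]
      rfl⟩) A
  rw [(SzMatrix.good hK).mem_Sz, szA_eq_iff, ← h4, ← h1, ← h3]
  have h5 : gamB K (toCh K A) = toCh K B := h2.symm
  rw [h5, toCh_inj.eq_iff, ← Units.ext_iff, toSp_inj.eq_iff]
  exact ⟨fun h => h.2, fun h => ⟨toSp_mem A, h⟩⟩

omit [CharP K 2] in
theorem Sz_le (e : ℕ) : Lie.Sz K e ≤ Sp4 K := (Subgroup.closure_le _).2 fun _ h => h.1

theorem Sz_le_range (e : ℕ) : Lie.Sz K e ≤ (toSp K).range := fun _ hg => toSp_surj (Sz_le e hg)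

/-- the Suzuki group inside the symplectic group -/
noncomputable def szS (K : Type) [Field K] [CharP K 2] (e : ℕ) : ↥(Lie.Sz K e) →* Matrix.symplecticGroup (Fin 2) K :=
  (MonoidHom.ofInjective (toSp_inj (K := K))).symm.toMonoidHom.comp (Subgroup.inclusion (Sz_le_range e))

theorem toSp_szS (e : ℕ) (s : ↥(Lie.Sz K e)) : toSp K (szS K e s) = s :=
  congrArg Subtype.val ((MonoidHom.ofInjective (toSp_inj (K := K))).apply_symm_apply
    (Subgroup.inclusion (Sz_le_range e) s))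

theorem szS_inj (e : ℕ) : Function.Injective (szS K e) := fun a b h =>
  Subtype.ext (by rw [← toSp_szS e a, h, toSp_szS])

end Sp

variable {k : Type} [Field k] [CharP k 2] [IsAlgClosed k]

/-- the datum of `²B₂(2 ^ (2 m + 1))` -/
noncomputable def datB2 (hk : LocFin k) (m : ℕ) : Datum 2 (chevB2.group k).subtype (szA k m) ⊤ :=
  (spc_B2 k m).datum (spcD_B2 m) hk (Nat.succ_pos _)

theorem qs_B2 (hk : LocFin k) (m : ℕ) : (datB2 hk m).QSp swB := Spc.qs _ _ _ _

theorem ex_B2 (hk : LocFin k) (m : ℕ) (i : Fin 2) : (datB2 hk m).ex (sr i) = (![m + 1, m] : Fin 2 → ℕ) i := by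
  refine (Spc.ex_sr _ _ _ _ i).trans ?_
  have h : ∀ i : Fin 2, lgB (chevB2.simple i) = (![1, 0] : Fin 2 → ℕ) i := by decide +kernel
  rw [h]
  fin_cases i <;> rfl

/-- the embedding of the finite group -/
noncomputable def embB2 {K : Type} [Field K] [CharP K 2] (f : K →+* k) (e : ℕ) : ↥(Lie.Sz K e) →* ↥(chevB2.group k) :=
  (emb tyB2.inList f).comp ((toCh K).comp (szS K e))

theorem emb_B2 {K : Type} [Field K] [Fintype K] [CharP K 2] (f : K →+* k) {m : ℕ}
    (hK : Fintype.card K = 2 ^ (2 * m + 1)) : Emb (szA k m) ⊤ (TT chevB2 k) (embB2 f (2 ^ (m + 1))) 1 := by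
  have hc := Spc.emb_comm f (F₀ := (szA K m).toMonoidHom) (spc_B2 K m) (spc_B2 k m)
  refine Emb.of_surj ((emb_injective tyB2.inList f).comp (toCh_inj.comp (szS_inj _))) (fun s => ⟨trivial, ?_⟩)
    fun y hy => ?_
  · show szA k m (emb tyB2.inList f _) = emb tyB2.inList f _
    rw [hc]
    exact congrArg _ ((mem_Sz_iff hK _).1 (by rw [toSp_szS]; exact s.2))
  · obtain ⟨z, rfl⟩ := (spc_B2 k m).fix_range (spcD_B2 m) f hK invC_B2 two_ne_zero (perf2 K) hy.2
    have h1 : szA k m (emb tyB2.inList f z) = emb tyB2.inList f z := hy.2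
    rw [hc] at h1
    obtain ⟨A, rfl⟩ := toCh_surj z
    have h2 := (mem_Sz_iff hK A).2 (emb_injective _ f h1)
    refine ⟨⟨_, h2⟩, ?_⟩
    have h3 : szS K _ ⟨_, h2⟩ = A := toSp_inj (toSp_szS _ _)
    show emb tyB2.inList f (toCh K (szS K _ _)) = _
    rw [h3]

end Cfsg.Agent.DL.Tw
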